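import Cfsg.Agent.BHZ.Nil.DZ
import Cfsg.Agent.S0188

/-!
# S4817, `E₈`, `p = 3`: characters of small defect (helper19)

* `Df`, `nd3` : defects in a product of three groups;
* `DZy`, `dzy_of_block`.
-/

set_option autoImplicit false

namespace Cfsg.Agent.TO.X3N

open Cfsg Subgroup
open Cfsg.Agent.H665.NoPQ (HasDZ)

section Char

variable {p k : ℕ} {G A B C H : Type*} [Group G] [Group A] [Group B] [Group C] [Group H]

/-- an irreducible character of defect at most `k` -/
def Df (p k : ℕ) (G : Type*) [Group G] : Prop :=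
  ∃ χ : G → ℂ, IsIrrCharacter G χ ∧ (Nat.card G).factorization p ≤ (charDegree χ).factorization p + k

theorem deg_le [Finite G] {χ : G → ℂ} (h : IsIrrCharacter G χ) :
    (charDegree χ).factorization p ≤ (Nat.card G).factorization p :=
  (Nat.factorization_le_iff_dvd (Blocks.Basic.charDegree_pos h).ne' Nat.card_pos.ne').2
    (Blocks.Knorr.charDegree_dvd h) p

theorem Df.dz [Finite G] (h : Df p 0 G) : HasDZ p G :=
  let ⟨χ, h1, h2⟩ := h
  ⟨⟨χ, h1⟩, le_antisymm (deg_le h1) h2⟩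

theorem df_up [Finite G] (N : Subgroup G) [N.Normal] (h : HasDZ p N) (hk : N.index.factorization p ≤ k) : Df p k G := by
  obtain ⟨θ, h1⟩ := h
  obtain ⟨χ, h2, h3⟩ := H672.exists_over_subtype N θ.2
  have h4 := (Nat.factorization_le_iff_dvd (Blocks.Basic.charDegree_pos θ.2).ne' (Blocks.Basic.charDegree_pos h2).ne').2
    (H672.charDegree_dvd_of_over N h2 θ.2 h3).1 p
  refine ⟨χ, h2, ?_⟩
  rw [← N.card_mul_index, Nat.factorization_mul Nat.card_pos.ne' index_ne_zero_of_finite, Finsupp.add_apply, ← h1]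
  omega

theorem Df.prod [Finite A] [Finite B] (h : Df p (k + 1) (A × B)) (hA : ¬ HasDZ p A) : Df p k B := by
  obtain ⟨χ, h1, h2⟩ := h
  obtain ⟨φ, ψ, h3, h4, rfl⟩ := (S0188.result χ).1 h1
  have h5 : charDegree (fun x : A × B => φ x.1 * ψ x.2) = charDegree φ * charDegree ψ := by
    refine Blocks.Basic.charDegree_of_eq ?_
    show φ 1 * ψ 1 = _
    rw [Blocks.Basic.irr_one_eq_charDegree h3, Blocks.Basic.irr_one_eq_charDegree h4, Nat.cast_mul]
  have h7 : (charDegree φ).factorization p ≠ (Nat.card A).factorization p := fun e => hA ⟨⟨φ, h3⟩, e⟩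
  have h8 := deg_le (p := p) h3
  rw [h5, Nat.card_prod, Nat.factorization_mul Nat.card_pos.ne' Nat.card_pos.ne',
    Nat.factorization_mul (Blocks.Basic.charDegree_pos h3).ne' (Blocks.Basic.charDegree_pos h4).ne', Finsupp.add_apply,
    Finsupp.add_apply] at h2
  exact ⟨ψ, h4, by omega⟩

/-- three groups without characters of defect zero -/
theorem nd3 [Finite A] [Finite B] [Finite C] (hA : ¬ HasDZ p A) (hB : ¬ HasDZ p B) (hC : ¬ HasDZ p C)
    (N : Subgroup (A × B × C)) [N.Normal] (hk : N.index.factorization p ≤ 2) : ¬ HasDZ p N := fun h =>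
  hC (((df_up N h hk).prod hA).prod hB).dz

end Char

section Loc

variable {Y : Type} [Group Y]

/-- normal sections of the centralizer of `Q` in the fixed points have characters of defect zero -/
def DZy (σ : MulAut Y) (Q : Subgroup Y) : Prop :=
  ∀ (W H : Type) [Group W] [Group H] (a : W →* Y) (b : W →* H), Function.Surjective b → (∀ w, σ (a w) = a w) →
    (∀ w, ∀ d ∈ Q, d * a w = a w * d) →
    (∀ c, σ c = c → (∀ d ∈ Q, d * c = c * d) → ∀ w, ∃ w', a w' = c * a w * c⁻¹) → (∀ w, b w = 1 ↔ a w ∈ Q) → HasDZ 3 H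

theorem dzy_of_block {G : Type} [Group G] [Finite G] {M : Ideal AlgInt} (hM : IsPModular 3 M) {B : Set (IrrCharacter G)}
    (hB : IsPBlock M B) {D : Subgroup G} (hD : IsDefectGroup 3 M B D) {σ : MulAut Y} {π : G →* Y}
    (hπ : Function.Injective π) (hfix : ∀ y, σ y = y ↔ y ∈ π.range) : DZy σ (D.map π) := by
  intro W H _ _ a b hb h1 h2 h3 h4
  have : Fact (Nat.Prime 3) := ⟨Nat.prime_three⟩
  let a' : W →* G := (MonoidHom.ofInjective hπ).symm.toMonoidHom.comp (a.codRestrict _ fun w => (hfix _).1 (h1 w))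
  have e : ∀ w, π (a' w) = a w := fun w => MonoidHom.apply_ofInjective_symm hπ _
  have hq : ∀ w, a' w ∈ D ↔ a w ∈ D.map π := fun w => by rw [← e, mem_map_iff_mem hπ]
  have hk : a'.rangeRestrict.ker ≤ b.ker := fun w hw => (h4 w).2 ((hq w).1 (by
    rw [show a' w = 1 from congrArg Subtype.val hw]; exact one_mem _))
  let f : a'.range →* H := a'.rangeRestrict.liftOfSurjective a'.rangeRestrict_surjective ⟨b, hk⟩
  have hf : ∀ w, f (a'.rangeRestrict w) = b w := fun w => MonoidHom.liftOfRightInverse_comp_apply _ _ _ _ _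
  have h5 : ∀ c ∈ centralizer (D : Set G), ∀ n ∈ a'.range, c * n * c⁻¹ ∈ a'.range := by
    rintro c hc _ ⟨w, rfl⟩
    obtain ⟨w', hw⟩ := h3 (π c) ((hfix _).2 ⟨c, rfl⟩) (by
      rintro _ ⟨d, hd, rfl⟩
      rw [← map_mul, ← map_mul, mem_centralizer_iff.1 hc d hd]) w
    exact ⟨w', hπ (by rw [e, hw, map_mul, map_mul, map_inv, e])⟩
  refine BHZ.Nil.dz_of_block hM hB hD (N := a'.range) ?_ (fun c hc => mem_normalizer_iff.2 fun n => ⟨h5 c hc n, fun h => ?_⟩)
    f (fun y => ?_) fun x => ?_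
  · rintro _ ⟨w, rfl⟩
    exact mem_centralizer_iff.2 fun d hd => hπ (by rw [map_mul, map_mul, e, h2 w _ ⟨d, hd, rfl⟩])
  · have h6 := h5 c⁻¹ (inv_mem hc) _ h
    rwa [show c⁻¹ * (c * n * c⁻¹) * c⁻¹⁻¹ = n by group] at h6
  · obtain ⟨w, rfl⟩ := hb y
    exact ⟨_, hf w⟩
  · obtain ⟨w, rfl⟩ := a'.rangeRestrict_surjective x
    rw [hf, h4, ← hq]
    rfl

end Loc

end Cfsg.Agent.TO.X3N
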